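import Cfsg.Agent.LargeExtra.Tri.FreeMod
import Cfsg.Agent.LargeExtra.FlipKill

/-!
# `|Q| = 2 ^ 9`, case II: `|D̃| = 2` or type (B) (helper73)

`case_two`: `G` finite without subgroups of index two, `p : Pair Q z A a`, `|Q| = 2 ^ 9`, no nonzero totally
singular `H`-invariant subspace ⇒ `|D̃| = 2` or (`|D̃| = 16` and `V` is a free `F₂[X]`-module).
-/

set_option autoImplicit false

namespace Cfsg.Agent.LargeExtra.Tri.CaseTwo

open Module
open Cfsg.Agent.Co2Type.Quad Cfsg.Agent.LargeExtra.Base Cfsg.Agent.LargeExtra.TwoCentral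
open Cfsg.Agent.LargeExtra.Siegel Cfsg.Agent.LargeExtra.SiegFam.Inst
open Cfsg.Agent.LargeExtra.Tri.Basic Cfsg.Agent.LargeExtra.Tri.FreeMod

variable {G : Type*} [Group G] {Q A : Subgroup G} {z a : G}

/-- all transvections of `U` give all of `GL(U)`. -/
theorem gl_of_transv {V : Type*} [AddCommGroup V] [Module (ZMod 2) V] [Finite V]
    (H : Subgroup (V ≃ₗ[ZMod 2] V)) (U : Submodule (ZMod 2) V)
    (htr : ∀ x ∈ U, x ≠ 0 → ∀ ψ : V →ₗ[ZMod 2] ZMod 2, ψ x = 0 → ∃ h ∈ H, ∀ y ∈ U, h y = y + ψ y • x)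
    (φ : U ≃ₗ[ZMod 2] U) : ∃ h ∈ H, ∀ u : U, h (u : V) = φ u := by
  classical
  have : Module.Finite (ZMod 2) V := Module.Finite.of_finite
  let B : Module.Basis (Fin (finrank (ZMod 2) U)) (ZMod 2) U := Module.finBasis (ZMod 2) U
  have key : ∀ M : Matrix (Fin (finrank (ZMod 2) U)) (Fin (finrank (ZMod 2) U)) (ZMod 2), M.det ≠ 0 →
      ∃ h ∈ H, ∀ u : U, h (u : V) = Matrix.toLin B B M u := by
    intro M hM
    refine Matrix.diagonal_transvection_induction_of_det_ne_zero
      (fun M => ∃ h ∈ H, ∀ u : U, h (u : V) = Matrix.toLin B B M u) M hM ?_ ?_ ?_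
    · intro d hd
      have h1 : ∀ i, d i = 1 := by
        intro i
        rcases zmod_two (d i) with h2 | h2
        · exfalso; apply hd
          rw [Matrix.det_diagonal]
          exact Finset.prod_eq_zero (Finset.mem_univ i) h2
        · exact h2
      refine ⟨1, H.one_mem, fun u => ?_⟩
      rw [show d = fun _ => 1 from funext h1, Matrix.diagonal_one, Matrix.toLin_one]
      rfl
    · intro t
      rcases zmod_two t.c with h1 | h1
      · refine ⟨1, H.one_mem, fun u => ?_⟩
        rw [Matrix.TransvectionStruct.toMatrix, h1, Matrix.transvection_zero, Matrix.toLin_one]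
        rfl
      · obtain ⟨ψ, hψ⟩ := LinearMap.exists_extend (B.coord t.j)
        have hvB : ∀ x : U, ψ (x : V) = B.coord t.j x := by
          intro x
          rw [← hψ]; rfl
        obtain ⟨h, hh, e⟩ := htr (B t.i) (B t.i).2 (fun h2 => B.ne_zero t.i (Subtype.ext h2)) ψ (by
          rw [hvB, Module.Basis.coord_apply, Module.Basis.repr_self,
            Finsupp.single_eq_of_ne (fun h => t.hij h.symm)])
        refine ⟨h, hh, fun u => ?_⟩
        have hlin : Matrix.toLin B B t.toMatrix = LinearMap.id + (B.coord t.j).smulRight (B t.i) := by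
          apply B.ext
          intro k
          rw [Matrix.toLin_self, Matrix.TransvectionStruct.toMatrix, h1, Matrix.transvection]
          simp only [Matrix.add_apply, Matrix.one_apply, Matrix.single_apply, LinearMap.add_apply,
            LinearMap.id_apply, LinearMap.smulRight_apply]
          rw [Module.Basis.coord_apply, Module.Basis.repr_self]
          simp only [add_smul, Finset.sum_add_distrib, ite_smul, one_smul, zero_smul, Finset.sum_ite_eq',
            Finset.mem_univ, if_true, ite_and]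
          congr 1
          by_cases hjk : t.j = k
          · subst hjk
            simp
          · simp [hjk, Finsupp.single_eq_of_ne]
        rw [e _ u.2, hlin, hvB]
        rfl
    · rintro A A' - - ⟨h, hh, e⟩ ⟨k, hk, e'⟩
      refine ⟨h * k, H.mul_mem hh hk, fun u => ?_⟩
      show h (k u) = _
      rw [e', e, Matrix.toLin_mul B B B]
      rfl
  have hdet : (LinearMap.toMatrix B B (φ : U →ₗ[ZMod 2] U)).det ≠ 0 := by
    have h1 : LinearMap.toMatrix B B (φ : U →ₗ[ZMod 2] U) * LinearMap.toMatrix B B (φ.symm : U →ₗ[ZMod 2] U) = 1 := by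
      rw [← LinearMap.toMatrix_comp, LinearEquiv.comp_coe, LinearEquiv.symm_trans_self]
      exact LinearMap.toMatrix_one B
    intro h0
    have h2 := congrArg Matrix.det h1
    rw [Matrix.det_mul, h0, zero_mul, Matrix.det_one] at h2
    exact absurd h2 (by decide)
  obtain ⟨h, hh, e⟩ := key _ hdet
  refine ⟨h, hh, fun u => ?_⟩
  rw [e, Matrix.toLin_toMatrix]
  rfl

theorem card_V (h : Large Q z) (hQ : Nat.card Q = 2 ^ 9) : Nat.card h.V = 256 := by
  have h1 := h.card_eq
  rw [hQ] at h1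
  omega

theorem finrank_of_card {V : Type*} [AddCommGroup V] [Module (ZMod 2) V] [Finite V] {n : ℕ}
    (h : Nat.card V = 2 ^ n) : finrank (ZMod 2) V = n := by
  have : Module.Finite (ZMod 2) V := Module.Finite.of_finite
  rw [Module.natCard_eq_pow_finrank (K := ZMod 2) (V := V), Nat.card_zmod] at h
  exact Nat.pow_right_injective (le_refl 2) h

theorem card_of_finrank {V : Type*} [AddCommGroup V] [Module (ZMod 2) V] [Finite V] {n : ℕ}
    (h : finrank (ZMod 2) V = n) : Nat.card V = 2 ^ n := by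
  have : Module.Finite (ZMod 2) V := Module.Finite.of_finite
  rw [Module.natCard_eq_pow_finrank (K := ZMod 2) (V := V), Nat.card_zmod, h]

/-- the Siegel case is impossible -/
theorem false_of_allSg [Finite G] (hG : ∀ H : Subgroup G, H.index ≠ 2) (p : Pair Q z A a)
    (hQ : Nat.card Q = 2 ^ 9) (hirr : Irr p) (hS : AllSg p) (hd : 4 ≤ Nat.card p.D) : False := by
  have hV := card_V p.lz hQ
  have hfr : finrank (ZMod 2) p.lz.V = 8 := finrank_of_card (by rw [hV]; norm_num)
  obtain ⟨U, U', S⟩ := siegel_case p hS (by omega) hirr hd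
  have hfd : Module.Finite (ZMod 2) p.lz.V := Module.Finite.of_finite
  have hU : finrank (ZMod 2) U = 4 := by have := S.dim; omega
  have hU' : finrank (ZMod 2) U' = 4 := by have := S.dim'; omega
  have hb : ∀ u ∈ U, ∀ v ∈ U, p.lz.b u v = 0 := by
    intro u hu v hv
    have h1 := p.lz.q_add' u v
    rw [S.q_U _ (U.add_mem hu hv), S.q_U _ hu, S.q_U _ hv, add_zero, zero_add] at h1
    exact h1.symm
  have hspan : ∀ v, ∃ u ∈ U, ∃ w ∈ U', v = u + w := by
    have hdis : U ⊓ U' = ⊥ := by
      rw [eq_bot_iff]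
      rintro v ⟨h1, h2⟩
      exact S.disj v h1 h2
    have h1 := Submodule.finrank_sup_add_finrank_inf_eq U U'
    rw [hdis, finrank_bot, add_zero, hU, hU'] at h1
    have h2 : U ⊔ U' = ⊤ := Submodule.eq_top_of_finrank_eq (by rw [h1, hfr])
    intro v
    have h3 : v ∈ U ⊔ U' := by rw [h2]; trivial
    obtain ⟨u, hu, w, hw, h⟩ := Submodule.mem_sup.1 h3
    exact ⟨u, hu, w, hw, h.symm⟩
  refine FlipKill.kill hG (h := p.lz) (U := U) (W := U') ?_
  refine ⟨⟨inferInstance, hspan, S.q_U, S.q_U', S.disj⟩, ?_, ?_, ?_, ?_, ?_⟩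
  · rw [card_of_finrank hU]; norm_num
  · rw [hQ]; norm_num
  · intro c
    exact S.perm _ ⟨c, rfl⟩
  · obtain ⟨_, ⟨c, rfl⟩, h1⟩ := S.flip
    exact ⟨c, h1⟩
  · intro φ
    obtain ⟨_, ⟨c, rfl⟩, h1⟩ := gl_of_transv p.H U (by
      intro x hx hx0 ψ hψ
      obtain ⟨v, hv⟩ := p.lz.exists_b_eq ψ
      obtain ⟨u, hu, w, hw, rfl⟩ := hspan v
      have hw' : ∀ y ∈ U, ψ y = p.lz.b w y := by
        intro y hy
        rw [← hv, map_add, LinearMap.add_apply, hb u hu y hy, zero_add]
      obtain ⟨h, hh, e⟩ := S.siegel x hx hx0 w hw (by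
        rw [p.lz.b_comm, ← hw' x hx]; exact hψ)
      refine ⟨h, hh, fun y hy => ?_⟩
      rw [e, SiegFam.sg, hb x hx y hy, hw' y hy]
      simp) φ
    exact ⟨c, h1⟩

/-- **case II for `|Q| = 2 ^ 9`** -/
theorem case_two [Finite G] (hG : ∀ H : Subgroup G, H.index ≠ 2) (p : Pair Q z A a)
    (hQ : Nat.card Q = 2 ^ 9) (hirr : Irr p) :
    Nat.card p.D = 2 ∨ (Nat.card p.D = 16 ∧ ∃ x, Free p x) := by
  have hV := card_V p.lz hQ
  have hfd : Module.Finite (ZMod 2) p.lz.V := Module.Finite.of_finite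
  have h1 : Nat.card p.D = 2 ^ finrank (ZMod 2) p.D := card_of_finrank rfl
  have h2 := Perp.card_sq_le p.lz p.D fun v hv w hw => p.b_D hv hw
  rw [hV] at h2
  have h3 : Nat.card p.D ≤ 16 := by
    by_contra hcon
    have : 17 * 17 ≤ Nat.card p.D * Nat.card p.D := Nat.mul_le_mul (by omega) (by omega)
    omega
  have h4 : 2 ≤ Nat.card p.D := by
    have h5 : Nontrivial p.D := ⟨⟨⟨p.va, p.va_mem_D⟩, 0, fun h => p.va_ne (congrArg Subtype.val h)⟩⟩
    exact Finite.one_lt_card
  have h5 : finrank (ZMod 2) p.D ≤ 4 := by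
    by_contra hcon
    have : 2 ^ 5 ≤ 2 ^ finrank (ZMod 2) p.D := Nat.pow_le_pow_right (by norm_num) (by omega)
    omega
  by_cases h6 : Nat.card p.D < 16
  · left
    by_contra h7
    have h8 : 4 ≤ Nat.card p.D := by
      rw [h1] at h4 h7 ⊢
      have h9 : finrank (ZMod 2) p.D ≠ 0 := by
        intro h; rw [h] at h4; norm_num at h4
      have h10 : finrank (ZMod 2) p.D ≠ 1 := by
        intro h; rw [h] at h7; exact h7 rfl
      calc 4 = 2 ^ 2 := rfl
        _ ≤ _ := Nat.pow_le_pow_right (by norm_num) (by omega)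
    exact false_of_allSg hG p hQ hirr (Basic.allSg p h6) h8
  · right
    have h7 : Nat.card p.D = 16 := by omega
    refine ⟨h7, exists_free p hV h7 fun hS => ?_⟩
    exact false_of_allSg hG p hQ hirr hS (by omega)

end Cfsg.Agent.LargeExtra.Tri.CaseTwo
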