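import Cfsg.Agent.LargeExtra.Tri.CaseTwo

/-!
# From the third alternative of S1761 to `Irr p` (helper73)
-/

set_option autoImplicit false

namespace Cfsg.Agent.LargeExtra.Tri.Irred

open Cfsg.Agent.Co2Type.Quad Cfsg.Agent.LargeExtra.Base Cfsg.Agent.LargeExtra.TwoCentral
open Cfsg.Agent.LargeExtra.SiegFam.Inst

variable {G : Type*} [Group G]

/-- the preimage in `Q` of a subspace of `V` -/
def pre {Q : Subgroup G} {z : G} (h : Large Q z) (R : Submodule (ZMod 2) h.V) : Subgroup G where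
  carrier := {x | ∃ hx : x ∈ Q, h.pr ⟨x, hx⟩ ∈ R}
  one_mem' := ⟨Q.one_mem, by
    have : h.pr ⟨1, Q.one_mem⟩ = 0 := h.pr_one
    rw [this]; exact R.zero_mem⟩
  mul_mem' := by
    rintro x y ⟨hx, h1⟩ ⟨hy, h2⟩
    refine ⟨Q.mul_mem hx hy, ?_⟩
    have : h.pr ⟨x * y, Q.mul_mem hx hy⟩ = h.pr ⟨x, hx⟩ + h.pr ⟨y, hy⟩ := h.pr_mul ⟨x, hx⟩ ⟨y, hy⟩
    rw [this]; exact R.add_mem h1 h2
  inv_mem' := by
    rintro x ⟨hx, h1⟩
    refine ⟨Q.inv_mem hx, ?_⟩
    have : h.pr ⟨x⁻¹, Q.inv_mem hx⟩ = -h.pr ⟨x, hx⟩ := h.pr_inv ⟨x, hx⟩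
    rw [this]; exact R.neg_mem h1

theorem mem_pre {Q : Subgroup G} {z : G} (h : Large Q z) (R : Submodule (ZMod 2) h.V) {x : G} :
    x ∈ pre h R ↔ ∃ hx : x ∈ Q, h.pr ⟨x, hx⟩ ∈ R := Iff.rfl

/-- no proper nonzero `C_G(z)`-invariant subspace -/
theorem eq_bot_or_top {z : G} {F : Subgroup ↥(Subgroup.centralizer ({z} : Set G))}
    (h : Large (F.map (Subgroup.centralizer ({z} : Set G)).subtype) z)
    (hI : ∀ A : Subgroup ↥(Subgroup.centralizer ({z} : Set G)), A.Normal →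
      Subgroup.zpowers (⟨z, Subgroup.mem_centralizer_singleton_iff.mpr rfl⟩ :
        ↥(Subgroup.centralizer ({z} : Set G))) ≤ A → A ≤ F →
      A = Subgroup.zpowers (⟨z, Subgroup.mem_centralizer_singleton_iff.mpr rfl⟩ :
        ↥(Subgroup.centralizer ({z} : Set G))) ∨ A = F)
    (R : Submodule (ZMod 2) h.V) (hR : ∀ c, ∀ v ∈ R, h.act c v ∈ R) : R = ⊥ ∨ R = ⊤ := by
  have hmem : ∀ x : ↥(Subgroup.centralizer ({z} : Set G)), (x : G) ∈
      F.map (Subgroup.centralizer ({z} : Set G)).subtype ↔ x ∈ F := by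
    intro x
    constructor
    · rintro ⟨y, hy, hyx⟩
      have : y = x := Subtype.ext hyx
      rwa [← this]
    · intro hx
      exact ⟨x, hx, rfl⟩
  have hn : ((pre h R).subgroupOf (Subgroup.centralizer ({z} : Set G))).Normal := by
    constructor
    intro x hx c
    obtain ⟨h2, h3⟩ := hx
    have h2' : (x : G) ∈ F.map (Subgroup.centralizer ({z} : Set G)).subtype := h2
    have h4 : (c : G) * x * (c : G)⁻¹ ∈ F.map (Subgroup.centralizer ({z} : Set G)).subtype :=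
      h.conj_mem c (Subgroup.mem_centralizer_singleton_iff.1 c.2) x h2'
    refine ⟨h4, ?_⟩
    have h5 := hR c _ h3
    rw [h.act_pr] at h5
    have h6 : h.conjQ c ⟨x, h2'⟩ = ⟨(c : G) * x * (c : G)⁻¹, h4⟩ := Subtype.ext (h.conjQ_coe c _)
    have h7 : h.pr (h.conjQ c ⟨x, h2'⟩) ∈ R := h5
    rw [h6] at h7
    exact h7
  have hz : Subgroup.zpowers (⟨z, Subgroup.mem_centralizer_singleton_iff.mpr rfl⟩ :
      ↥(Subgroup.centralizer ({z} : Set G))) ≤
      (pre h R).subgroupOf (Subgroup.centralizer ({z} : Set G)) := by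
    rw [Subgroup.zpowers_le]
    refine ⟨h.z_mem, ?_⟩
    have : h.pr ⟨z, h.z_mem⟩ = 0 := h.pr_eq_zero.2 (Or.inr rfl)
    exact this ▸ R.zero_mem
  have hF : (pre h R).subgroupOf (Subgroup.centralizer ({z} : Set G)) ≤ F := by
    intro x hx
    obtain ⟨h2, -⟩ := hx
    exact (hmem x).1 h2
  rcases hI _ hn hz hF with h1 | h1
  · left
    rw [eq_bot_iff]
    intro v hv
    obtain ⟨x, rfl⟩ := h.pr_surjective v
    have hxC : (x : G) ∈ Subgroup.centralizer ({z} : Set G) :=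
      Subgroup.mem_centralizer_singleton_iff.2 (h.comm_z x x.2)
    have h2 : (⟨x, hxC⟩ : ↥(Subgroup.centralizer ({z} : Set G))) ∈
        (pre h R).subgroupOf (Subgroup.centralizer ({z} : Set G)) := ⟨x.2, hv⟩
    obtain ⟨n, hn⟩ := Subgroup.mem_zpowers_iff.1 (h1.le h2)
    have h3 : z ^ n = (x : G) := congrArg Subtype.val hn
    have h4 : (x : G) = 1 ∨ (x : G) = z := by
      rw [← h3]
      rcases Int.even_or_odd n with ⟨m, hm⟩ | ⟨m, hm⟩
      · left
        rw [hm, ← two_mul, zpow_mul, zpow_ofNat, pow_two, h.z_sq, one_zpow]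
      · right
        rw [hm, zpow_add, zpow_mul, zpow_ofNat, pow_two, h.z_sq, one_zpow, one_mul, zpow_one]
    exact (Submodule.mem_bot _).2 (h.pr_eq_zero.2 h4)
  · right
    rw [eq_top_iff]
    intro v _
    obtain ⟨x, rfl⟩ := h.pr_surjective v
    have hxC : (x : G) ∈ Subgroup.centralizer ({z} : Set G) :=
      Subgroup.mem_centralizer_singleton_iff.2 (h.comm_z x x.2)
    have h2 : (⟨x, hxC⟩ : ↥(Subgroup.centralizer ({z} : Set G))) ∈ F := (hmem ⟨x, hxC⟩).1 x.2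
    obtain ⟨h3, h4⟩ := h1.ge h2
    exact h4

/-- the third alternative of S1761 implies `Irr p` -/
theorem irr {z a : G} {A : Subgroup G} {F : Subgroup ↥(Subgroup.centralizer ({z} : Set G))}
    (p : Pair (F.map (Subgroup.centralizer ({z} : Set G)).subtype) z A a)
    (hI : ∀ A : Subgroup ↥(Subgroup.centralizer ({z} : Set G)), A.Normal →
      Subgroup.zpowers (⟨z, Subgroup.mem_centralizer_singleton_iff.mpr rfl⟩ :
        ↥(Subgroup.centralizer ({z} : Set G))) ≤ A → A ≤ F →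
      A = Subgroup.zpowers (⟨z, Subgroup.mem_centralizer_singleton_iff.mpr rfl⟩ :
        ↥(Subgroup.centralizer ({z} : Set G))) ∨ A = F) : Irr p := by
  intro R hq hR
  rcases eq_bot_or_top p.lz hI R (fun c v hv => hR _ ⟨c, rfl⟩ v hv) with h1 | h1
  · exact h1
  · exfalso
    apply p.va_ne
    apply p.lz.b_nondeg
    intro w
    have h2 := p.lz.q_add' p.va w
    have h3 : ∀ v, p.lz.q v = 0 := fun v => hq v (by rw [h1]; trivial)
    rw [h3, h3, h3, add_zero, zero_add] at h2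
    exact h2.symm

end Cfsg.Agent.LargeExtra.Tri.Irred
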