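import Cfsg.Agent.LargeExtra.SiegFam.Inst

/-!
# The alternating trilinear form of a pair (helper73)

`p : Pair Q z A a`, `ã = p.va`.
* `exists_delta`: for `b(ã, v) = 1` the map `f ↦ f v + v` is a bijection of `p.X` onto `ã^⊥ / D̃`.
* `cross`: if `f, g ∈ X` belong to `r, s ∈ ã^⊥` (`f v + v + r, g v + v + s ∈ D̃`) then
  `f s + s = g r + r` modulo `⟨ã⟩`; the trilinear form `b(t, f s + s)` is alternating in `r, s, t`.
* `allSg`: `|D̃| < 16` ⇒ all elements of `X` are Siegel elements.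
* `exists_frame`: if not, there are `r1, r2, r3` with `b(r1, f3 r2 + r2) = 1`.
-/

set_option autoImplicit false

namespace Cfsg.Agent.LargeExtra.Tri.Basic

open Cfsg.Agent.Co2Type.Quad Cfsg.Agent.LargeExtra.Base Cfsg.Agent.LargeExtra.TwoCentral
open Cfsg.Agent.LargeExtra.Siegel Cfsg.Agent.LargeExtra.SiegFam.Inst

variable {G : Type*} [Group G] {Q A : Subgroup G} {z a : G}

/-- (L0) `x ∈ C_A(z)`, `q ∈ Q ∖ C_G(a)` and `x^q ∈ A` imply `x ∈ Q`. -/
theorem mem_of_conj_mem (p : Pair Q z A a) {x q : G} (hx : x ∈ A) (hq : q ∈ Q)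
    (hqa : q * a ≠ a * q) (h : q * x * q⁻¹ ∈ A) : x ∈ Q := by
  obtain ⟨g, hg1, -, hgA, -⟩ := p.isConj
  obtain ⟨y, hy, hyz⟩ := exists_not_comm p.la p.z_mem p.lz.z_ne p.ne.symm
  -- `y z = z y a`
  have hq1 : q * a * q⁻¹ = a * z := by
    rcases p.lz.comm q hq a p.a_mem with h1 | h1
    · exact absurd h1 hqa
    · rw [h1, mul_assoc _ z, ← (p.lz.commz hq).inv_left.eq]; group
  have hy1 : y * z * y⁻¹ = a * z := by
    rw [hyz, mul_assoc _ a, ← (p.la.commz hy).inv_left.eq, p.comm_za]; group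
  have e : (q * g) * z * (q * g)⁻¹ = y * z * y⁻¹ := by
    rw [hy1, ← hq1, ← hg1]; group
  have h2 := map_eq_of_conj p.lz e
  have h3 : q * x * q⁻¹ ∈ Q.map (MulAut.conj (q * g)).toMonoidHom := by
    rw [hgA] at hx
    obtain ⟨x0, hx0, rfl⟩ := hx
    refine ⟨x0, hx0, ?_⟩
    show q * g * x0 * (q * g)⁻¹ = q * (g * x0 * g⁻¹) * q⁻¹
    group
  rw [h2] at h3
  obtain ⟨x1, hx1, hx1e⟩ := h3
  have hx1e' : y * x1 * y⁻¹ = q * x * q⁻¹ := hx1e
  have hx1A : x1 ∈ A := by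
    have : x1 = y⁻¹ * (q * x * q⁻¹) * y := by rw [← hx1e']; group
    rw [this]
    exact A.mul_mem (A.mul_mem (A.inv_mem hy) h) hy
  have h4 : q * x * q⁻¹ ∈ Q := by
    rw [← hx1e']
    rcases p.conj_D hx1A hy with h5 | h5
    · rw [h5]; exact hx1
    · rw [h5]; exact Q.mul_mem hx1 p.a_mem
  have : x = q⁻¹ * (q * x * q⁻¹) * q := by group
  rw [this]
  exact Q.mul_mem (Q.mul_mem (Q.inv_mem hq) h4) hq

/-- `f ∈ X`, `f v + v ∈ D̃` for some `v` with `b(ã, v) = 1` imply `f = 1` -/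
theorem eq_one_of_delta (p : Pair Q z A a) {f : p.lz.V ≃ₗ[ZMod 2] p.lz.V} (hf : f ∈ p.X)
    {v : p.lz.V} (hv : p.lz.b p.va v = 1) (h : f v + v ∈ p.D) : f = 1 := by
  obtain ⟨c, hc, rfl⟩ := p.mem_X.1 hf
  obtain ⟨q, rfl⟩ := p.lz.pr_surjective v
  have hqa : (q : G) * a ≠ a * q := by
    intro h1
    have := (p.lz.b_pr ⟨a, p.a_mem⟩ q).2 h1.symm
    rw [show p.lz.pr ⟨a, p.a_mem⟩ = p.va from rfl, hv] at this
    exact one_ne_zero this
  have h3 : p.lz.act c (p.lz.pr q) + p.lz.pr q = p.lz.pr (p.lz.conjQ c q * q⁻¹) := by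
    rw [p.lz.act_pr, p.lz.pr_mul, p.lz.pr_inv, p.lz.neg_eq]
  rw [h3, p.pr_mem_D] at h
  have h4 : (c : G) * q * (c : G)⁻¹ * (q : G)⁻¹ ∈ A := h
  have h5 : (q : G) * c * (q : G)⁻¹ ∈ A := by
    have : (q : G) * c * (q : G)⁻¹ = ((c : G)⁻¹ * ((c : G) * q * (c : G)⁻¹ * (q : G)⁻¹))⁻¹ := by group
    rw [this]
    exact A.inv_mem (A.mul_mem (A.inv_mem hc) h4)
  exact p.lz.act_mem c (mem_of_conj_mem p hc q.2 hqa h5)

theorem X_D_mem (p : Pair Q z A a) {f : p.lz.V ≃ₗ[ZMod 2] p.lz.V} (hf : f ∈ p.X) {d : p.lz.V}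
    (hd : d ∈ p.D) : f d ∈ p.D := by
  rcases p.X_D hf hd with h | h
  · rw [h]; exact hd
  · rw [h]; exact p.D.add_mem hd p.va_mem_D

theorem add_add_cancel' (h : Large Q z) (x y : h.V) : x + y + y = x := by
  rw [add_assoc, h.add_self, add_zero]

theorem b_add_left (h : Large Q z) (x y w : h.V) : h.b (x + y) w = h.b x w + h.b y w := by
  rw [map_add, LinearMap.add_apply]

/-- `b(ã, f v) = b(ã, v)` -/
theorem b_va_X (p : Pair Q z A a) {f : p.lz.V ≃ₗ[ZMod 2] p.lz.V} (hf : f ∈ p.X) (v : p.lz.V) :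
    p.lz.b p.va (f v) = p.lz.b p.va v := by
  nth_rewrite 1 [← p.X_va hf]
  exact b_of_mem_O p.lz (X_le_O p hf) _ _

theorem b_va_delta (p : Pair Q z A a) {f : p.lz.V ≃ₗ[ZMod 2] p.lz.V} (hf : f ∈ p.X) (v : p.lz.V) :
    p.lz.b p.va (f v + v) = 0 := by
  rw [map_add, b_va_X p hf, CharTwo.add_self_eq_zero]

/-- for `b(ã, v) = 1` every `s ∈ ã^⊥` is `f v + v` modulo `D̃` for some `f ∈ X` -/
theorem exists_delta [Finite G] (p : Pair Q z A a) {v : p.lz.V} (hv : p.lz.b p.va v = 1)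
    {s : p.lz.V} (hs : p.lz.b p.va s = 0) : ∃ f ∈ p.X, f v + v + s ∈ p.D := by
  classical
  have hfin : Finite (p.lz.V ≃ₗ[ZMod 2] p.lz.V) :=
    Finite.of_injective (fun g => (g : p.lz.V → p.lz.V)) DFunLike.coe_injective
  let F : p.X × p.D × ZMod 2 → p.lz.V := fun x =>
    ((x.1 : p.lz.V ≃ₗ[ZMod 2] p.lz.V) v + v) + (x.2.1 : p.lz.V) + x.2.2 • v
  have hF : Function.Injective F := by
    rintro ⟨⟨f, hf⟩, ⟨d, hd⟩, c⟩ ⟨⟨g, hg⟩, ⟨e, he⟩, c'⟩ h
    have h1 : (f v + v) + d + c • v = (g v + v) + e + c' • v := h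
    have hb : ∀ (f : p.lz.V ≃ₗ[ZMod 2] p.lz.V) (_ : f ∈ p.X) (d : p.lz.V) (_ : d ∈ p.D) (c : ZMod 2),
        p.lz.b p.va ((f v + v) + d + c • v) = c := by
      intro f hf d hd c
      rw [map_add, map_add, map_smul, b_va_delta p hf, b_va_D p hd, hv, smul_eq_mul, mul_one,
        zero_add, zero_add]
    have h2 : c = c' := by rw [← hb f hf d hd c, ← hb g hg e he c', h1]
    subst h2
    have h3 : f v + d = g v + e := by
      have := add_right_cancel h1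
      rw [add_right_comm (f v), add_right_comm (g v)] at this
      exact add_right_cancel this
    have h4 : (g⁻¹ * f) v + v ∈ p.D := by
      have h5 : f v = g v + (e + d) := by
        rw [← add_assoc, ← h3, add_add_cancel']
      have h6 : (g⁻¹ * f) v = v + g⁻¹ (e + d) := by
        show g⁻¹ (f v) = _
        rw [h5, map_add]
        congr 1
        exact g.symm_apply_apply v
      rw [h6, add_right_comm, p.lz.add_self, zero_add]
      exact X_D_mem p (p.X.inv_mem hg) (p.D.add_mem he hd)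
    have h5 := eq_one_of_delta p (p.X.mul_mem (p.X.inv_mem hg) hf) hv h4
    have h6 : f = g := (inv_mul_eq_one.1 h5).symm
    subst h6
    have h7 := add_left_cancel h3
    subst h7
    rfl
  have hb := hF.bijective_of_nat_card_le (by
    rw [Nat.card_prod, Nat.card_prod, Nat.card_zmod, ← p.card_X, mul_assoc])
  obtain ⟨⟨⟨f, hf⟩, ⟨d, hd⟩, c⟩, h1⟩ := hb.2 s
  have h2 : (f v + v) + d + c • v = s := h1
  have h3 : c = 0 := by
    have : p.lz.b p.va ((f v + v) + d + c • v) = c := by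
      rw [map_add, map_add, map_smul, b_va_delta p hf, b_va_D p hd, hv, smul_eq_mul, mul_one,
        zero_add, zero_add]
    rw [← this, h2, hs]
  refine ⟨f, hf, ?_⟩
  rw [h3, zero_smul, add_zero] at h2
  rw [← h2]
  have : f v + v + (f v + v + d) = d := by rw [← add_assoc, p.lz.add_self, zero_add]
  rw [this]
  exact hd

/-- `f` belongs to `s` -/
def Bel (p : Pair Q z A a) (v : p.lz.V) (f : p.lz.V ≃ₗ[ZMod 2] p.lz.V) (s : p.lz.V) : Prop :=
  f ∈ p.X ∧ f v + v + s ∈ p.D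

theorem Bel.perp {p : Pair Q z A a} {v : p.lz.V} {f : p.lz.V ≃ₗ[ZMod 2] p.lz.V} {s : p.lz.V}
    (h : Bel p v f s) : p.lz.b p.va s = 0 := by
  have h1 := b_va_D p h.2
  rw [map_add, b_va_delta p h.1, zero_add] at h1
  exact h1

theorem Bel.unique {p : Pair Q z A a} {v : p.lz.V} (hv : p.lz.b p.va v = 1)
    {f g : p.lz.V ≃ₗ[ZMod 2] p.lz.V} {s : p.lz.V} (hf : Bel p v f s) (hg : Bel p v g s) : f = g := by
  have h1 : f v + g v ∈ p.D := by
    have h2 := p.D.add_mem hf.2 hg.2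
    have : f v + v + s + (g v + v + s) = f v + g v + ((v + v) + (s + s)) := by abel
    rw [this, p.lz.add_self, p.lz.add_self, add_zero, add_zero] at h2
    exact h2
  have h4 : (g⁻¹ * f) v + v ∈ p.D := by
    have h6 : (g⁻¹ * f) v + v = g⁻¹ (f v + g v) := by
      rw [map_add]
      congr 1
      exact (g.symm_apply_apply v).symm
    rw [h6]
    exact X_D_mem p (p.X.inv_mem hg.1) h1
  have h5 := eq_one_of_delta p (p.X.mul_mem (p.X.inv_mem hg.1) hf.1) hv h4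
  exact (inv_mul_eq_one.1 h5).symm

theorem Bel.mul {p : Pair Q z A a} {v : p.lz.V}
    {f g : p.lz.V ≃ₗ[ZMod 2] p.lz.V} {r s : p.lz.V} (hf : Bel p v f r) (hg : Bel p v g s) :
    Bel p v (f * g) (r + s) := by
  refine ⟨p.X.mul_mem hf.1 hg.1, ?_⟩
  -- `f g v + v + r + s = f (g v + v + s) + (f v + v + r) + (f s + s)`
  have e : (f * g) v + v + (r + s) = f (g v + v + s) + (f v + v + r) + (f s + s) := by
    rw [map_add, map_add]
    show f (g v) + v + (r + s) = f (g v) + f v + f s + (f v + v + r) + (f s + s)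
    have : f (g v) + f v + f s + (f v + v + r) + (f s + s) =
      f (g v) + v + (r + s) + ((f v + f v) + (f s + f s)) := by abel
    rw [this, p.lz.add_self, p.lz.add_self, add_zero, add_zero]
  rw [e]
  exact p.D.add_mem (p.D.add_mem (X_D_mem p hf.1 hg.2) hf.2) (p.X_perp hf.1 hg.perp)

/-- symmetry of the cross product modulo `⟨ã⟩` -/
theorem Bel.cross {p : Pair Q z A a} {v : p.lz.V}
    {f g : p.lz.V ≃ₗ[ZMod 2] p.lz.V} {r s : p.lz.V} (hf : Bel p v f r) (hg : Bel p v g s) :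
    ∃ c : ZMod 2, f s + s = g r + r + c • p.va := by
  have h1 : f (g v) = g (f v) := congrArg (fun x : p.lz.V ≃ₗ[ZMod 2] p.lz.V => x v)
    (p.X_comm hf.1 hg.1)
  have h2 := p.X_D hf.1 hg.2
  have h3 := p.X_D hg.1 hf.2
  -- `f s = f (g v + v + (d))`
  have key : f s + s = g r + r + ((f (g v + v + s) + (g v + v + s)) +
      (g (f v + v + r) + (f v + v + r))) := by
    rw [map_add, map_add, map_add, map_add, h1]
    have : g r + r + (g (f v) + f v + f s + (g v + v + s) + (g (f v) + g v + g r + (f v + v + r))) =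
      f s + s + ((g r + g r) + (r + r) + (g (f v) + g (f v)) + (f v + f v) + (g v + g v) +
        (v + v)) := by abel
    rw [this]
    simp only [p.lz.add_self, add_zero]
  have hc : ∀ (f : p.lz.V ≃ₗ[ZMod 2] p.lz.V) (d : p.lz.V), (f d = d ∨ f d = d + p.va) →
      ∃ c : ZMod 2, f d + d = c • p.va := by
    rintro f d (h | h)
    · exact ⟨0, by rw [h, p.lz.add_self, zero_smul]⟩
    · exact ⟨1, by rw [h, add_right_comm, p.lz.add_self, zero_add, one_smul]⟩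
  obtain ⟨c1, h4⟩ := hc f _ h2
  obtain ⟨c2, h5⟩ := hc g _ h3
  refine ⟨c1 + c2, ?_⟩
  rw [key, h4, h5, add_smul]

/-- `b(t, f s + s)` is symmetric in `t, s ∈ ã^⊥` -/
theorem b_swap (p : Pair Q z A a) {f : p.lz.V ≃ₗ[ZMod 2] p.lz.V} (hf : f ∈ p.X) {s t : p.lz.V}
    (hs : p.lz.b p.va s = 0) (ht : p.lz.b p.va t = 0) :
    p.lz.b t (f s + s) = p.lz.b s (f t + t) := by
  have h3 : p.lz.b p.va (s + t) = 0 := by rw [map_add, hs, ht, add_zero]
  have h4 := b_delta p hf h3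
  have h5 : f (s + t) + (s + t) = (f s + s) + (f t + t) := by rw [map_add]; abel
  rw [h5, b_four, b_delta p hf hs, b_delta p hf ht, zero_add, add_zero] at h4
  exact (CharTwo.add_eq_zero.1 h4).symm

/-- `b(t, f s + s)` is symmetric in `r, s` -/
theorem Bel.b_cross {p : Pair Q z A a} {v : p.lz.V}
    {f g : p.lz.V ≃ₗ[ZMod 2] p.lz.V} {r s t : p.lz.V} (hf : Bel p v f r) (hg : Bel p v g s)
    (ht : p.lz.b p.va t = 0) : p.lz.b t (f s + s) = p.lz.b t (g r + r) := by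
  obtain ⟨c, h⟩ := hf.cross hg
  rw [h, map_add, map_smul, p.lz.b_comm t p.va, ht, smul_zero, add_zero]

theorem Bel.b_self {p : Pair Q z A a} {v : p.lz.V}
    {f : p.lz.V ≃ₗ[ZMod 2] p.lz.V} {r s : p.lz.V} (hf : Bel p v f r)
    (hs : p.lz.b p.va s = 0) : p.lz.b r (f s + s) = 0 := by
  rw [b_swap p hf.1 hs hf.perp]
  have h1 := hf.b_cross hf hs
  -- `f r + r ∈ ⟨ã⟩`: `f (f v + v) = f v + v`
  have h2 := fix_delta p hf.1 v
  have h3 : f r + r = f (f v + v + r) + (f v + v + r) := by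
    rw [map_add, h2]
    have : f v + v + f r + (f v + v + r) = f r + r + ((f v + f v) + (v + v)) := by abel
    rw [this, p.lz.add_self, p.lz.add_self, add_zero, add_zero]
  rw [h3]
  rcases p.X_D hf.1 hf.2 with h4 | h4
  · rw [h4, p.lz.add_self, map_zero]
  · rw [h4, add_right_comm, p.lz.add_self, zero_add, p.lz.b_comm]; exact hs

/-- the frame -/
structure Frame (p : Pair Q z A a) (v r1 r2 r3 : p.lz.V)
    (f1 f2 f3 : p.lz.V ≃ₗ[ZMod 2] p.lz.V) : Prop where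
  hv : p.lz.b p.va v = 1
  bel1 : Bel p v f1 r1
  bel2 : Bel p v f2 r2
  bel3 : Bel p v f3 r3
  one : p.lz.b r1 (f3 r2 + r2) = 1

theorem exists_frame_of [Finite G] (p : Pair Q z A a) {v : p.lz.V} (hv : p.lz.b p.va v = 1)
    {f : p.lz.V ≃ₗ[ZMod 2] p.lz.V} (hf : f ∈ p.X) {r : p.lz.V} (hr : p.lz.b p.va r = 0)
    (h0 : f r + r ≠ 0) (ha : f r + r ≠ p.va) :
    ∃ r1 r2 r3 f1 f2 f3, Frame p v r1 r2 r3 f1 f2 f3 := by
  obtain ⟨t, ht, htg⟩ : ∃ t, p.lz.b p.va t = 0 ∧ p.lz.b (f r + r) t ≠ 0 := by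
    by_contra hcon
    push Not at hcon
    rcases eq_of_perp p.lz hcon with h3 | h3
    · exact h0 h3
    · exact ha h3
  obtain ⟨f1, h1, h1'⟩ := exists_delta p hv ht
  obtain ⟨f2, h2, h2'⟩ := exists_delta p hv hr
  refine ⟨t, r, f v + v, f1, f2, f, hv, ⟨h1, h1'⟩, ⟨h2, h2'⟩, ⟨hf, ?_⟩, ?_⟩
  · rw [p.lz.add_self]; exact p.D.zero_mem
  · rw [p.lz.b_comm]; exact zmod_two_ne htg

theorem exists_v (p : Pair Q z A a) : ∃ v, p.lz.b p.va v = 1 ∧ p.lz.q v = 0 := by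
  obtain ⟨y, hy⟩ : ∃ y, p.lz.b p.va y ≠ 0 := by
    by_contra hcon
    push Not at hcon
    exact p.va_ne (p.lz.b_nondeg hcon)
  have hy1 : p.lz.b p.va y = 1 := zmod_two_ne hy
  rcases zmod_two (p.lz.q y) with h | h
  · exact ⟨y, hy1, h⟩
  · refine ⟨y + p.va, ?_, ?_⟩
    · rw [map_add, hy1, p.lz.b_self, add_zero]
    · rw [p.lz.q_add', h, q_va, p.lz.b_comm, hy1]; decide

/-- either all elements of `X` are Siegel elements or there is a frame -/
theorem allSg_or_frame [Finite G] (p : Pair Q z A a) :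
    AllSg p ∨ ∀ v, p.lz.b p.va v = 1 → ∃ r1 r2 r3 f1 f2 f3, Frame p v r1 r2 r3 f1 f2 f3 := by
  by_cases hex : ∃ f ∈ p.X, ∃ r, p.lz.b p.va r = 0 ∧ f r + r ≠ 0 ∧ f r + r ≠ p.va
  · right
    intro v hv
    obtain ⟨f, hf, r, hr, h0, ha⟩ := hex
    exact exists_frame_of p hv hf hr h0 ha
  · left
    push Not at hex
    intro f hf
    apply eq_sg p.lz (q_va p) p.va_ne (X_le_O p hf) (p.X_va hf)
    intro v hv
    by_cases h0 : f v + v = 0
    · left
      calc f v = f v + v + v := by rw [add_assoc, p.lz.add_self, add_zero]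
        _ = v := by rw [h0, zero_add]
    · right
      calc f v = f v + v + v := by rw [add_assoc, p.lz.add_self, add_zero]
        _ = v + p.va := by rw [hex f hf v hv h0, add_comm]

namespace Frame

variable {p : Pair Q z A a} {v r1 r2 r3 : p.lz.V} {f1 f2 f3 : p.lz.V ≃ₗ[ZMod 2] p.lz.V}

/-- the table of the products `b(r_i, g_j)`, `g1 = f2 r3 + r3`, `g2 = f3 r1 + r1`, `g3 = f1 r2 + r2` -/
theorem table (F : Frame p v r1 r2 r3 f1 f2 f3) :
    p.lz.b r1 (f2 r3 + r3) = 1 ∧ p.lz.b r2 (f2 r3 + r3) = 0 ∧ p.lz.b r3 (f2 r3 + r3) = 0 ∧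
    p.lz.b r1 (f3 r1 + r1) = 0 ∧ p.lz.b r2 (f3 r1 + r1) = 1 ∧ p.lz.b r3 (f3 r1 + r1) = 0 ∧
    p.lz.b r1 (f1 r2 + r2) = 0 ∧ p.lz.b r2 (f1 r2 + r2) = 0 ∧ p.lz.b r3 (f1 r2 + r2) = 1 := by
  have h1 := F.bel1.perp
  have h2 := F.bel2.perp
  have h3 := F.bel3.perp
  refine ⟨?_, ?_, ?_, ?_, ?_, ?_, ?_, ?_, ?_⟩
  · rw [F.bel2.b_cross F.bel3 h1]; exact F.one
  · exact F.bel2.b_self h3
  · exact b_delta p F.bel2.1 h3
  · exact b_delta p F.bel3.1 h1
  · rw [b_swap p F.bel3.1 h1 h2]; exact F.one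
  · exact F.bel3.b_self h1
  · exact F.bel1.b_self h2
  · exact b_delta p F.bel1.1 h2
  · rw [b_swap p F.bel1.1 h2 h3, F.bel1.b_cross F.bel3 h2, b_swap p F.bel3.1 h1 h2]; exact F.one

end Frame

/-- **`|D̃| < 16` ⇒ Siegel case** -/
theorem allSg [Finite G] (p : Pair Q z A a) (hD : Nat.card p.D < 16) : AllSg p := by
  rcases allSg_or_frame p with h | h
  · exact h
  · exfalso
    obtain ⟨v, hv, -⟩ := exists_v p
    obtain ⟨r1, r2, r3, f1, f2, f3, F⟩ := h v hv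
    obtain ⟨t1, t2, t3, t4, t5, t6, t7, t8, t9⟩ := F.table
    have hg1 := p.X_perp F.bel2.1 F.bel3.perp
    have hg2 := p.X_perp F.bel3.1 F.bel1.perp
    have hg3 := p.X_perp F.bel1.1 F.bel2.perp
    have ha1 := F.bel1.perp
    have ha2 := F.bel2.perp
    have ha3 := F.bel3.perp
    rw [p.lz.b_comm] at ha1 ha2 ha3
    have hv' : p.lz.b v p.va = 1 := by rw [p.lz.b_comm]; exact hv
    generalize f2 r3 + r3 = g1 at *
    generalize f3 r1 + r1 = g2 at *
    generalize f1 r2 + r2 = g3 at *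
    have hsurj : Function.Surjective (fun d : p.D =>
        ((p.lz.b r1 (d : p.lz.V), p.lz.b r2 (d : p.lz.V), p.lz.b r3 (d : p.lz.V),
          p.lz.b v (d : p.lz.V)) : ZMod 2 × ZMod 2 × ZMod 2 × ZMod 2)) := by
      rintro ⟨c1, c2, c3, c4⟩
      refine ⟨⟨c1 • g1 + c2 • g2 + c3 • g3 +
        (c4 + c1 * p.lz.b v g1 + c2 * p.lz.b v g2 + c3 * p.lz.b v g3) • p.va,
        p.D.add_mem (p.D.add_mem (p.D.add_mem (p.D.smul_mem _ hg1) (p.D.smul_mem _ hg2))
          (p.D.smul_mem _ hg3)) (p.D.smul_mem _ p.va_mem_D)⟩, ?_⟩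
      simp only [map_add, map_smul, t1, t2, t3, t4, t5, t6, t7, t8, t9, ha1, ha2, ha3, hv',
        smul_eq_mul, mul_zero, mul_one, add_zero, zero_add, Prod.mk.injEq, true_and]
      have : ∀ a b c d : ZMod 2, a + b + c + (d + a + b + c) = d := by decide
      exact this _ _ _ _
    have h3 := Nat.card_le_card_of_surjective _ hsurj
    have h4 : Nat.card (ZMod 2 × ZMod 2 × ZMod 2 × ZMod 2) = 16 := by
      rw [Nat.card_prod, Nat.card_prod, Nat.card_prod, Nat.card_zmod]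
    omega

end Cfsg.Agent.LargeExtra.Tri.Basic
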