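import Cfsg.Agent.LargeExtra.Tri.Basic

/-!
# Type (B): `V` is a free `F₂[X]`-module (helper73)

`p : Pair Q z A a` with `|V| = 256`, `|D̃| = 16`, not all elements of `p.X` Siegel.
* `Free p x`: `x : Fin 8 → GL(V)` enumerates `p.X`, `x i * x j = x (i ^^^ j)`, and
  `∑ i, x i v = b(ã, v) ã`.
* `exists_free`; `Free.basis`: for `b(ã, c) = 1` the eight vectors `x i c` are a basis of `V`.
* `Free.exists_g`: `b(v, x i v) = g i * b(ã, v)`, `∑ i, g i = 1`.
-/

set_option autoImplicit false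

namespace Cfsg.Agent.LargeExtra.Tri.FreeMod

open Cfsg.Agent.Co2Type.Quad Cfsg.Agent.LargeExtra.Base Cfsg.Agent.LargeExtra.TwoCentral
open Cfsg.Agent.LargeExtra.Siegel Cfsg.Agent.LargeExtra.SiegFam.Inst
open Cfsg.Agent.LargeExtra.Tri.Basic

/-! ### three commuting involutions -/

theorem xor_kk : ∀ i k : Fin 8, i ^^^ k ^^^ k = i := by decide
theorem xor_ii : ∀ i : Fin 8, i ^^^ i = 0 := by decide
theorem xor_comm' : ∀ i j : Fin 8, i ^^^ j = j ^^^ i := by decide
theorem xor_iij : ∀ i j : Fin 8, i ^^^ i ^^^ j = j := by decide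

section el

variable {M : Type*} [Group M]

/-- `f1 ^ i₀ f2 ^ i₁ f3 ^ i₂` -/
def el (f1 f2 f3 : M) (i : Fin 8) : M :=
  f1 ^ (i.val % 2) * f2 ^ (i.val / 2 % 2) * f3 ^ (i.val / 4 % 2)

theorem pow_congr_two {f : M} (h : f * f = 1) {m n : ℕ} (hmn : m % 2 = n % 2) : f ^ m = f ^ n := by
  have key : ∀ m : ℕ, f ^ m = f ^ (m % 2) := by
    intro m
    conv_lhs => rw [← Nat.div_add_mod m 2]
    rw [pow_add, pow_mul, pow_two, h, one_pow, one_mul]
  rw [key m, key n, hmn]

theorem el_mul {f1 f2 f3 : M} (h1 : f1 * f1 = 1) (h2 : f2 * f2 = 1) (h3 : f3 * f3 = 1)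
    (h12 : Commute f1 f2) (h13 : Commute f1 f3) (h23 : Commute f2 f3) (i j : Fin 8) :
    el f1 f2 f3 i * el f1 f2 f3 j = el f1 f2 f3 (i ^^^ j) := by
  have e0 : ∀ i j : Fin 8, (i.val % 2 + j.val % 2) % 2 = ((i ^^^ j).val % 2) % 2 := by decide
  have e1 : ∀ i j : Fin 8, (i.val / 2 % 2 + j.val / 2 % 2) % 2 = ((i ^^^ j).val / 2 % 2) % 2 := by
    decide
  have e2 : ∀ i j : Fin 8, (i.val / 4 % 2 + j.val / 4 % 2) % 2 = ((i ^^^ j).val / 4 % 2) % 2 := by
    decide
  unfold el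
  rw [← pow_congr_two h1 (e0 i j), ← pow_congr_two h2 (e1 i j), ← pow_congr_two h3 (e2 i j),
    pow_add, pow_add, pow_add]
  generalize i.val % 2 = a0
  generalize j.val % 2 = b0
  generalize i.val / 2 % 2 = a1
  generalize j.val / 2 % 2 = b1
  generalize i.val / 4 % 2 = a2
  generalize j.val / 4 % 2 = b2
  have c1 : Commute (f2 ^ a1) (f1 ^ b0) := (h12.symm.pow_pow _ _)
  have c2 : Commute (f3 ^ a2) (f1 ^ b0) := (h13.symm.pow_pow _ _)
  have c3 : Commute (f3 ^ a2) (f2 ^ b1) := (h23.symm.pow_pow _ _)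
  calc f1 ^ a0 * f2 ^ a1 * f3 ^ a2 * (f1 ^ b0 * f2 ^ b1 * f3 ^ b2)
      = f1 ^ a0 * f2 ^ a1 * (f3 ^ a2 * f1 ^ b0) * f2 ^ b1 * f3 ^ b2 := by group
    _ = f1 ^ a0 * (f2 ^ a1 * f1 ^ b0) * (f3 ^ a2 * f2 ^ b1) * f3 ^ b2 := by rw [c2.eq]; group
    _ = f1 ^ a0 * f1 ^ b0 * (f2 ^ a1 * f2 ^ b1) * (f3 ^ a2 * f3 ^ b2) := by
        rw [c1.eq, c3.eq]; group

end el

variable {G : Type*} [Group G] {Q A : Subgroup G} {z a : G}

/-- `f d = d + b(r, d) ã` on `D̃`, if `f` belongs to `r` -/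
theorem Bel.apply_D {p : Pair Q z A a} {v : p.lz.V} (hv : p.lz.b p.va v = 1)
    {f : p.lz.V ≃ₗ[ZMod 2] p.lz.V} {r d : p.lz.V} (hf : Bel p v f r) (hd : d ∈ p.D) :
    f d = d + p.lz.b r d • p.va := by
  have h1 : p.lz.b (f d) (f v) = p.lz.b d v := b_of_mem_O p.lz (X_le_O p hf.1) _ _
  have h2 : f v = v + r + (f v + v + r) := by
    have : v + r + (f v + v + r) = f v + ((v + v) + (r + r)) := by abel
    rw [this, p.lz.add_self, p.lz.add_self, add_zero, add_zero]
  have h4 : p.lz.b p.va (v + r + (f v + v + r)) = 1 := by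
    rw [map_add, map_add, hv, hf.perp, b_va_D p hf.2, add_zero, add_zero]
  have h5 : p.lz.b d (v + r + (f v + v + r)) = p.lz.b d v + p.lz.b d r := by
    rw [map_add, map_add, p.b_D hd hf.2, add_zero]
  have h6 : p.lz.b (f d) (v + r + (f v + v + r)) = p.lz.b d v := by rw [← h2]; exact h1
  rcases p.X_D hf.1 hd with h3 | h3
  · rw [h3, h5] at h6
    have h7 : p.lz.b d r = 0 := add_eq_left.1 h6
    rw [h3, p.lz.b_comm r d, h7, zero_smul, add_zero]
  · rw [h3, b_add_left, h5, h4, add_assoc] at h6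
    have h7 : p.lz.b d r + 1 = 0 := add_eq_left.1 h6
    have h8 : p.lz.b d r = 1 := by
      have : ∀ x : ZMod 2, x + 1 = 0 → x = 1 := by decide
      exact this _ h7
    rw [h3, p.lz.b_comm r d, h8, one_smul]

/-- `x` enumerates `p.X ≅ 2³`, `V` is free -/
structure Free (p : Pair Q z A a) (x : Fin 8 → (p.lz.V ≃ₗ[ZMod 2] p.lz.V)) : Prop where
  mem : ∀ i, x i ∈ p.X
  all : ∀ f ∈ p.X, ∃ i, x i = f
  mul : ∀ i j, x i * x j = x (i ^^^ j)
  inj : Function.Injective x
  norm : ∀ v, ∑ i, x i v = p.lz.b p.va v • p.va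

theorem card_X_eight [Finite G] (p : Pair Q z A a) (hV : Nat.card p.lz.V = 256)
    (hD : Nat.card p.D = 16) : Nat.card p.X = 8 := by
  have h1 := p.card_X
  rw [hV, hD] at h1
  omega

theorem free_of_frame [Finite G] (p : Pair Q z A a) (hV : Nat.card p.lz.V = 256)
    (hD : Nat.card p.D = 16) {v r1 r2 r3 : p.lz.V} {f1 f2 f3 : p.lz.V ≃ₗ[ZMod 2] p.lz.V}
    (F : Frame p v r1 r2 r3 f1 f2 f3) : Free p (el f1 f2 f3) := by
  classical
  have hfin : Finite (p.lz.V ≃ₗ[ZMod 2] p.lz.V) :=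
    Finite.of_injective (fun g => (g : p.lz.V → p.lz.V)) DFunLike.coe_injective
  have m1 := F.bel1.1
  have m2 := F.bel2.1
  have m3 := F.bel3.1
  have c12 : Commute f1 f2 := p.X_comm m1 m2
  have c13 : Commute f1 f3 := p.X_comm m1 m3
  have c23 : Commute f2 f3 := p.X_comm m2 m3
  have hmul := el_mul (p.X_sq m1) (p.X_sq m2) (p.X_sq m3) c12 c13 c23
  have hmem : ∀ i, el f1 f2 f3 i ∈ p.X := fun i =>
    p.X.mul_mem (p.X.mul_mem (p.X.pow_mem m1 _) (p.X.pow_mem m2 _)) (p.X.pow_mem m3 _)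
  obtain ⟨t1, t2, t3, t4, t5, t6, t7, t8, t9⟩ := F.table
  have hg1 := p.X_perp F.bel2.1 F.bel3.perp
  have hg2 := p.X_perp F.bel3.1 F.bel1.perp
  have hg3 := p.X_perp F.bel1.1 F.bel2.perp
  -- `el i` belongs to `i₀ r1 + i₁ r2 + i₂ r3`
  have hpow : ∀ (f : p.lz.V ≃ₗ[ZMod 2] p.lz.V) (r : p.lz.V) (_ : Bel p v f r) (n : ℕ), n < 2 →
      Bel p v (f ^ n) ((n : ZMod 2) • r) := by
    intro f r hf n hn
    interval_cases n
    · refine ⟨by rw [pow_zero]; exact p.X.one_mem, ?_⟩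
      rw [pow_zero, Nat.cast_zero, zero_smul, add_zero]
      show v + v ∈ p.D
      rw [p.lz.add_self]; exact p.D.zero_mem
    · rw [pow_one, Nat.cast_one, one_smul]; exact hf
  have hbel : ∀ i : Fin 8, Bel p v (el f1 f2 f3 i) (((i.val % 2 : ℕ) : ZMod 2) • r1 +
      ((i.val / 2 % 2 : ℕ) : ZMod 2) • r2 + ((i.val / 4 % 2 : ℕ) : ZMod 2) • r3) := fun i =>
    ((hpow f1 r1 F.bel1 _ (Nat.mod_lt _ (by norm_num))).mul
      (hpow f2 r2 F.bel2 _ (Nat.mod_lt _ (by norm_num)))).mul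
      (hpow f3 r3 F.bel3 _ (Nat.mod_lt _ (by norm_num)))
  have hone : ∀ i : Fin 8, el f1 f2 f3 i = 1 → i = 0 := by
    intro i hi
    have h1 := (hbel i).2
    have h2 : (el f1 f2 f3 i) v + v = 0 := by rw [hi]; exact p.lz.add_self v
    rw [h2, zero_add] at h1
    have k1 := p.b_D h1 hg1
    have k2 := p.b_D h1 hg2
    have k3 := p.b_D h1 hg3
    rw [b_add_left, b_add_left, map_smul, map_smul, map_smul, LinearMap.smul_apply,
      LinearMap.smul_apply, LinearMap.smul_apply] at k1 k2 k3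
    rw [t1, t2, t3, smul_zero, smul_zero, add_zero, add_zero, smul_eq_mul, mul_one] at k1
    rw [t4, t5, t6, smul_zero, smul_zero, add_zero, zero_add, smul_eq_mul, mul_one] at k2
    rw [t7, t8, t9, smul_zero, smul_zero, zero_add, zero_add, smul_eq_mul, mul_one] at k3
    revert k1 k2 k3
    clear h1 h2 hi
    revert i
    decide
  have hinj : Function.Injective (el f1 f2 f3) := by
    intro i j hij
    have h1 : el f1 f2 f3 (i ^^^ j) = 1 := by
      rw [← hmul, hij]
      exact p.X_sq (hmem j)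
    have h2 := hone _ h1
    revert h2
    clear hij h1
    revert i j
    decide
  refine ⟨hmem, ?_, hmul, hinj, ?_⟩
  · -- all
    let e : Fin 8 → p.X := fun i => ⟨el f1 f2 f3 i, hmem i⟩
    have he : Function.Injective e := fun i j hij => hinj (congrArg Subtype.val hij)
    have hb := he.bijective_of_nat_card_le (by
      rw [card_X_eight p hV hD, Nat.card_eq_fintype_card, Fintype.card_fin])
    intro f hf
    obtain ⟨i, hi⟩ := hb.2 ⟨f, hf⟩
    exact ⟨i, congrArg Subtype.val hi⟩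
  · -- norm
    intro w
    have hN : ∑ i, el f1 f2 f3 i w = f1 (f2 (f3 w + w) + (f3 w + w)) + (f2 (f3 w + w) + (f3 w + w)) := by
      have e0 : el f1 f2 f3 0 w = w := by simp [el]
      have e1 : el f1 f2 f3 1 w = f1 w := by simp [el]
      have e2 : el f1 f2 f3 2 w = f2 w := by simp [el]
      have e3 : el f1 f2 f3 3 w = f1 (f2 w) := by simp [el]
      have e4 : el f1 f2 f3 4 w = f3 w := by simp [el]
      have e5 : el f1 f2 f3 5 w = f1 (f3 w) := by simp [el]
      have e6 : el f1 f2 f3 6 w = f2 (f3 w) := by simp [el]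
      have e7 : el f1 f2 f3 7 w = f1 (f2 (f3 w)) := by simp [el]
      rw [Fin.sum_univ_eight, e0, e1, e2, e3, e4, e5, e6, e7]
      simp only [map_add]
      abel
    rw [hN]
    -- `w ∈ ã^⊥` or `w + v ∈ ã^⊥`
    have hperp : ∀ w, p.lz.b p.va w = 0 →
        f1 (f2 (f3 w + w) + (f3 w + w)) + (f2 (f3 w + w) + (f3 w + w)) = 0 := by
      intro w hw
      have k1 := p.X_perp m3 hw
      have k2 := Bel.apply_D F.hv F.bel2 k1
      rw [k2, add_right_comm (f3 w + w), p.lz.add_self, zero_add, map_smul, p.X_va m1, p.lz.add_self]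
    have hvv : f1 (f2 (f3 v + v) + (f3 v + v)) + (f2 (f3 v + v) + (f3 v + v)) = p.va := by
      have k0 : f3 v + v = r3 + (f3 v + v + r3) := by
        rw [add_comm r3, add_add_cancel']
      have k1 := F.bel3.2
      generalize f3 v + v + r3 = d at k0 k1
      have k2 := Bel.apply_D F.hv F.bel2 k1
      have k3 : f2 (f3 v + v) + (f3 v + v) = (f2 r3 + r3) + p.lz.b r2 d • p.va := by
        rw [k0, map_add, k2]
        have : f2 r3 + (d + p.lz.b r2 d • p.va) + (r3 + d) =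
          f2 r3 + r3 + p.lz.b r2 d • p.va + (d + d) := by abel
        rw [this, p.lz.add_self, add_zero]
      have k4 := Bel.apply_D F.hv F.bel1 hg1
      rw [k3, map_add, map_smul, p.X_va m1, k4, t1, one_smul]
      have : f2 r3 + r3 + p.va + p.lz.b r2 d • p.va + (f2 r3 + r3 + p.lz.b r2 d • p.va) =
        p.va + ((f2 r3 + r3) + (f2 r3 + r3)) + (p.lz.b r2 d • p.va + p.lz.b r2 d • p.va) := by abel
      rw [this, p.lz.add_self, p.lz.add_self, add_zero, add_zero]
    rcases zmod_two (p.lz.b p.va w) with hw | hw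
    · rw [hperp w hw, hw, zero_smul]
    · have hw' : p.lz.b p.va (w + v) = 0 := by rw [map_add, hw, F.hv]; decide
      have k := hperp _ hw'
      rw [hw, one_smul]
      have e : f1 (f2 (f3 (w + v) + (w + v)) + (f3 (w + v) + (w + v))) +
          (f2 (f3 (w + v) + (w + v)) + (f3 (w + v) + (w + v))) =
          (f1 (f2 (f3 w + w) + (f3 w + w)) + (f2 (f3 w + w) + (f3 w + w))) +
          (f1 (f2 (f3 v + v) + (f3 v + v)) + (f2 (f3 v + v) + (f3 v + v))) := by
        simp only [map_add]; abel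
      rw [e, hvv] at k
      have := congrArg (fun u => u + p.va) k
      simp only [zero_add] at this
      rw [add_add_cancel'] at this
      exact this

/-- **type (B)** -/
theorem exists_free [Finite G] (p : Pair Q z A a) (hV : Nat.card p.lz.V = 256)
    (hD : Nat.card p.D = 16) (hn : ¬ AllSg p) : ∃ x, Free p x := by
  obtain ⟨v, hv, -⟩ := exists_v p
  obtain ⟨r1, r2, r3, f1, f2, f3, F⟩ := (allSg_or_frame p).resolve_left hn v hv
  exact ⟨_, free_of_frame p hV hD F⟩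

namespace Free

variable {p : Pair Q z A a} {x : Fin 8 → (p.lz.V ≃ₗ[ZMod 2] p.lz.V)}

theorem mul_apply (F : Free p x) (i j : Fin 8) (v : p.lz.V) : x i (x j v) = x (i ^^^ j) v := by
  rw [← F.mul]; rfl

theorem zero_eq (F : Free p x) : x 0 = 1 := by
  have h := F.mul 0 0
  have h0 : (0 : Fin 8) ^^^ 0 = 0 := by decide
  rw [h0] at h
  exact mul_eq_left.1 h

/-- reindexing by an automorphism of `(Fin 8, ^^^)` -/
theorem comp (F : Free p x) (σ : Fin 8 ≃ Fin 8) (hσ : ∀ i j, σ (i ^^^ j) = σ i ^^^ σ j) :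
    Free p (x ∘ σ) where
  mem := fun i => F.mem _
  all := fun f hf => by
    obtain ⟨i, hi⟩ := F.all f hf
    exact ⟨σ.symm i, by rw [Function.comp_apply, σ.apply_symm_apply]; exact hi⟩
  mul := fun i j => by
    rw [Function.comp_apply, Function.comp_apply, Function.comp_apply, F.mul, hσ]
  inj := F.inj.comp σ.injective
  norm := fun v => by
    rw [← F.norm v]
    exact Equiv.sum_comp σ fun i => x i v

/-- a nonzero subspace of functions on `Fin 8`, invariant under translations, contains the constant `1` -/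
theorem const_mem {K : Submodule (ZMod 2) (Fin 8 → ZMod 2)}
    (hK : ∀ k : Fin 8, ∀ α ∈ K, (fun i => α (i ^^^ k)) ∈ K) (hne : K ≠ ⊥) :
    (fun _ => 1) ∈ K := by
  have key : ∀ k : Fin 8, ∀ P : (Fin 8 → ZMod 2) → Prop,
      (∀ α β, P α → P β → P (α + β)) → (∀ α, P α → P fun i => α (i ^^^ k)) →
      (∃ α ∈ K, α ≠ 0 ∧ P α) → ∃ α ∈ K, α ≠ 0 ∧ P α ∧ ∀ i, α (i ^^^ k) = α i := by
    rintro k P hadd hP ⟨α, hα, h0, hPα⟩
    have hkk : ∀ i : Fin 8, i ^^^ k ^^^ k = i := fun i => xor_kk i k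
    by_cases h : ∀ i, α (i ^^^ k) = α i
    · exact ⟨α, hα, h0, hPα, h⟩
    · push Not at h
      obtain ⟨j, hj⟩ := h
      refine ⟨α + fun i => α (i ^^^ k), K.add_mem hα (hK k α hα), ?_, hadd _ _ hPα (hP _ hPα), ?_⟩
      · intro h1
        have h2 := congrFun h1 j
        have h3 : α j + α (j ^^^ k) = 0 := h2
        exact hj (CharTwo.add_eq_zero.1 h3).symm
      · intro i
        show α (i ^^^ k) + α (i ^^^ k ^^^ k) = α i + α (i ^^^ k)
        rw [hkk, add_comm]
  obtain ⟨α, hα, h0⟩ := Submodule.exists_mem_ne_zero_of_ne_bot hne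
  obtain ⟨α1, h1, h10, -, h11⟩ := key 1 (fun _ => True) (fun _ _ _ _ => trivial)
    (fun _ _ => trivial) ⟨α, hα, h0, trivial⟩
  have hc : ∀ i j k : Fin 8, i ^^^ j ^^^ k = i ^^^ k ^^^ j := by decide
  obtain ⟨α2, h2, h20, h21, h22⟩ := key 2 (fun α => ∀ i, α (i ^^^ 1) = α i)
    (fun α β ha hb i => by rw [Pi.add_apply, Pi.add_apply, ha, hb])
    (fun α ha i => by
      show α (i ^^^ 1 ^^^ 2) = α (i ^^^ 2)
      rw [hc i 1 2, ha]) ⟨α1, h1, h10, h11⟩
  obtain ⟨α3, h3, h30, ⟨h31, h32⟩, h33⟩ := key 4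
    (fun α => (∀ i, α (i ^^^ 1) = α i) ∧ ∀ i, α (i ^^^ 2) = α i)
    (fun α β ha hb => ⟨fun i => by rw [Pi.add_apply, Pi.add_apply, ha.1, hb.1],
      fun i => by rw [Pi.add_apply, Pi.add_apply, ha.2, hb.2]⟩)
    (fun α ha => ⟨fun i => by
      show α (i ^^^ 1 ^^^ 4) = α (i ^^^ 4)
      rw [hc i 1 4, ha.1], fun i => by
      show α (i ^^^ 2 ^^^ 4) = α (i ^^^ 4)
      rw [hc i 2 4, ha.2]⟩) ⟨α2, h2, h20, h21, h22⟩
  have hconst : ∀ i, α3 i = α3 0 := by
    have e1 : α3 1 = α3 0 := h31 0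
    have e2 : α3 2 = α3 0 := h32 0
    have e4 : α3 4 = α3 0 := h33 0
    have e3 : α3 3 = α3 2 := h31 2
    have e5 : α3 5 = α3 4 := h31 4
    have e6 : α3 6 = α3 4 := h32 4
    have e7 : α3 7 = α3 6 := h31 6
    intro i
    fin_cases i
    · rfl
    · exact e1
    · exact e2
    · exact e3.trans e2
    · exact e4
    · exact e5.trans e4
    · exact e6.trans e4
    · exact e7.trans (e6.trans e4)
  have h1' : α3 0 = 1 := by
    apply zmod_two_ne
    intro h0'
    apply h30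
    funext i
    rw [hconst, h0']; rfl
  have : α3 = fun _ => 1 := by
    funext i
    rw [hconst, h1']
  rw [← this]
  exact h3

/-- the eight vectors `x i c` are linearly independent -/
theorem indep (F : Free p x) {c : p.lz.V} (hc : p.lz.b p.va c = 1) {α : Fin 8 → ZMod 2}
    (h : ∑ i, α i • x i c = 0) : α = 0 := by
  by_contra hne
  let K : Submodule (ZMod 2) (Fin 8 → ZMod 2) :=
    { carrier := {α | ∑ i, α i • x i c = 0}
      zero_mem' := by simp
      add_mem' := by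
        intro α β (h1 : ∑ i, α i • x i c = 0) (h2 : ∑ i, β i • x i c = 0)
        show ∑ i, (α + β) i • x i c = 0
        simp only [Pi.add_apply, add_smul, Finset.sum_add_distrib, h1, h2, add_zero]
      smul_mem' := by
        intro r α (h1 : ∑ i, α i • x i c = 0)
        show ∑ i, (r • α) i • x i c = 0
        simp only [Pi.smul_apply, smul_eq_mul, mul_smul, ← Finset.smul_sum, h1, smul_zero] }
  have hK : ∀ k : Fin 8, ∀ α ∈ K, (fun i => α (i ^^^ k)) ∈ K := by
    intro k α (h1 : ∑ i, α i • x i c = 0)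
    show ∑ i, α (i ^^^ k) • x i c = 0
    have hkk : ∀ i : Fin 8, i ^^^ k ^^^ k = i := fun i => xor_kk i k
    have h2 : x k (∑ i, α i • x i c) = 0 := by rw [h1, map_zero]
    rw [map_sum] at h2
    rw [← h2]
    let e : Fin 8 ≃ Fin 8 := ⟨fun i => i ^^^ k, fun i => i ^^^ k, hkk, hkk⟩
    rw [← Equiv.sum_comp e]
    refine Finset.sum_congr rfl fun i _ => ?_
    show α (i ^^^ k ^^^ k) • x (i ^^^ k) c = x k (α i • x i c)
    rw [hkk, map_smul, F.mul_apply]
    rw [xor_comm' k i]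
  have hm : α ∈ K := h
  have h1 := const_mem hK (fun hb => hne (by rw [hb] at hm; exact (Submodule.mem_bot _).1 hm))
  have h2 : ∑ i, (1 : ZMod 2) • x i c = 0 := h1
  simp only [one_smul] at h2
  rw [F.norm, hc, one_smul] at h2
  exact p.va_ne h2

/-- every vector is a combination of the `x i c` -/
theorem span [Finite G] (F : Free p x) (hV : Nat.card p.lz.V = 256) {c : p.lz.V}
    (hc : p.lz.b p.va c = 1) (v : p.lz.V) : ∃ α : Fin 8 → ZMod 2, ∑ i, α i • x i c = v := by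
  classical
  have hinj : Function.Injective (fun α : Fin 8 → ZMod 2 => ∑ i, α i • x i c) := by
    intro α β (h : ∑ i, α i • x i c = ∑ i, β i • x i c)
    have h1 : ∑ i, (α + β) i • x i c = 0 := by
      simp only [Pi.add_apply, add_smul, Finset.sum_add_distrib, h, p.lz.add_self]
    have h2 := F.indep hc h1
    funext i
    have h3 := congrFun h2 i
    exact CharTwo.add_eq_zero.1 h3
  have hb := hinj.bijective_of_nat_card_le (by
    rw [hV, Nat.card_fun, Nat.card_zmod, Nat.card_eq_fintype_card, Fintype.card_fin]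
    norm_num)
  exact hb.2 v

/-- the form: `b(v, x i v) = g i * b(ã, v)`, with `∑ g = 1`, `g 0 = 0` -/
theorem exists_g (F : Free p x) : ∃ g : Fin 8 → ZMod 2, (∀ i v, p.lz.b v (x i v) = g i * p.lz.b p.va v) ∧
    (∀ i j v, p.lz.b (x i v) (x j v) = g (i ^^^ j) * p.lz.b p.va v) ∧ g 0 = 0 ∧ ∑ i, g i = 1 := by
  obtain ⟨c, hc, -⟩ := exists_v p
  have h1 : ∀ i v, p.lz.b v (x i v) = p.lz.b c (x i c) * p.lz.b p.va v := by
    intro i v
    rcases zmod_two (p.lz.b p.va v) with hw | hw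
    · rw [hw, mul_zero]
      have := b_delta p (F.mem i) hw
      rw [map_add, p.lz.b_self, add_zero] at this
      exact this
    · rw [hw, mul_one]
      have hw' : p.lz.b p.va (v + c) = 0 := by rw [map_add, hw, hc]; decide
      have k := b_delta p (F.mem i) hw'
      rw [map_add _ (x i (v + c)), p.lz.b_self, add_zero, map_add (x i), b_four] at k
      have k2 : p.lz.b v (x i c) = p.lz.b c (x i v) := by
        have e1 : p.lz.b (x i v) (x i (x i c)) = p.lz.b v (x i c) :=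
          b_of_mem_O p.lz (X_le_O p (F.mem i)) _ _
        rw [F.mul_apply, xor_ii, F.zero_eq] at e1
        rw [← e1, p.lz.b_comm]; rfl
      rw [k2] at k
      generalize p.lz.b c (x i v) = α at k
      generalize p.lz.b v (x i v) = β at k ⊢
      generalize p.lz.b c (x i c) = γ at k ⊢
      revert k
      revert α β γ
      decide
  refine ⟨fun i => p.lz.b c (x i c), h1, ?_, ?_, ?_⟩
  · intro i j v
    rw [← h1 (i ^^^ j) v, ← F.mul_apply, ← b_of_mem_O p.lz (X_le_O p (F.mem i)) v, F.mul_apply]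
    rw [F.mul_apply, xor_iij]
  · show p.lz.b c (x 0 c) = 0
    rw [F.zero_eq]; exact p.lz.b_self c
  · rw [← map_sum, F.norm, hc, one_smul, p.lz.b_comm]; exact hc

end Free

end Cfsg.Agent.LargeExtra.Tri.FreeMod
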